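import Cfsg.Agent.H763.Co3.C0_mg
import Cfsg.Agent.H763.Co3.Model
import Cfsg.Agent.SporRec.Co3.Model
import Cfsg.Agent.Prune
set_option linter.all false

-- part: H763/Co3/C2
section
set_option linter.all false

set_option autoImplicit false
set_option maxRecDepth 1000000
set_option exponentiation.threshold 5000

namespace Cfsg.Agent.H763.Co3.Dat

open Cfsg.Agent.H123.Cls Cfsg.Agent.H763.Cls

theorem bd2 : chkB 552 10 row 10 p2 [(false, 2), (true, 1)]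
    [.cell [(false, 1)], .base 0 5 4, .cell [(true, 3), (true, 2), (false, 1), (true, 0)], .base 0 76 4, .cell [(true, 8), (true, 1), (false, 3), (false, 0), (false, 7), (true, 2)], .base 0 26 4, .cell [(true, 12), (true, 3), (false, 7), (false, 8), (false, 11), (true, 10), (false, 0), (false, 13)], .cnt 0 [0], .cell [(true, 13), (true, 12), (false, 15), (false, 14), (false, 5), (true, 4), (false, 2), (true, 0)], .cnt 0 [0], .cell [(true, 15), (true, 14), (false, 17), (false, 16), (true, 7), (true, 6), (false, 4), (false, 0)], .cnt 0 [0], .cell [(true, 15), (false, 8), (true, 11), (false, 7)], .cnt 0 [0], .cell [(true, 21), (false, 4), (false, 18), (false, 0), (false, 2), (false, 11), (false, 16)], .cnt 0 [0], .fin [23, 21, 22, 8, 0, 20, 12, 11, 16, 4, 17, 2, 15, 6, 13, 10, 25, 18]] 46079 = true := by decide +kernel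

theorem sg2 : chkSig 552 10 row 10 p2 key [40, 0, 72] = true := by decide +kernel

theorem ch2 : chkX 552 10 row 10 p2 82080 = true := chkX_of (by decide +kernel)

theorem cm2 : chkC 552 10 gens p2 [3, 0] [2, 4, 1] = true := by decide +kernel

theorem fo2 : chk4 10 gens bs p2 [0, 0] [0, 1, 4]
    [2, 0, 3, 2, 6] [0, 7, 14, 7, 6, 7] = true := by decide +kernel

theorem qa2 : chkQ 10 gens bs p2 23 [4, 3, 13, 15]
    [7, 5, 11, 12, 3, 0, 2, 4, 1, 8, 11, 9, 12, 10] = true := by decide +kernel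

theorem qb2 : chkQ 10 gens bs p2 11 [1, 2, 13, 15]
    [7, 5, 10, 9, 3, 0, 2, 4, 1, 8, 11, 9, 12, 10] = true := by decide +kernel

theorem bd6 : chkB 552 10 row 10 p6 [(false, 2), (false, 4), (false, 6), (true, 1), (true, 2), (true, 3)]
    [.cell [(true, 2), (false, 0), (false, 3)], .base 0 87 12, .cell [(true, 15), (true, 11), (false, 10), (true, 14), (true, 0), (true, 7), (false, 8)], .cnt 0 [0], .cell [(false, 15), (true, 16), (true, 13), (true, 10), (true, 4), (false, 8)], .cnt 0 [0], .cell [(true, 22), (false, 15), (true, 0)], .cnt 0 [0], .fin [17, 20, 7, 0, 4, 19, 14, 10, 2, 6, 13, 12, 11, 21, 16, 9, 8]] 47 = true := by decide +kernel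

theorem sg6 : chkSig 552 10 row 10 p6 key [164, 0, 4] = true := by decide +kernel

theorem ch6 : chkX 552 10 row 10 p6 206040 = true := chkX_of (by decide +kernel)

theorem cm6 : chkC 552 10 gens p6 [3, 7] [4, 6] = true := by decide +kernel

theorem fo6 : chk4 10 gens bs p6 [0, 3, 6] [8, 7]
    [0, 1, 7, 9] [0, 3, 4, 3, 14] = true := by decide +kernel

theorem qa6 : chkQ 10 gens bs p6 23 [3, 5, 15, 4]
    [12, 7, 13, 7, 4, 6, 15, 11, 14, 12] = true := by decide +kernel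

theorem qb6 : chkQ 10 gens bs p6 11 [3, 7, 1, 2]
    [10, 9, 4, 6, 15, 11, 14, 12] = true := by decide +kernel

theorem bd10 : chkB 552 10 row 10 p10 [(true, 1)]
    [.base 0 1 3, .cell [(true, 2), (false, 1), (false, 0), (false, 3)], .base 0 4 3, .cell [(true, 7), (true, 6), (true, 1), (true, 2), (true, 4), (false, 0)], .cnt 0 [3, 4, 5, 6, 1, 7, 0], .cell [(true, 5), (false, 15), (false, 14), (true, 10), (true, 8)], .cnt 0 [1, 0], .cell [(true, 1), (true, 16), (false, 15), (true, 11), (false, 13), (false, 18), (true, 12), (false, 9), (false, 8)], .cnt 0 [1, 0], .cell [(true, 3), (true, 14), (false, 20), (true, 1), (false, 21), (false, 19), (true, 15)], .cnt 0 [0], .cell [(true, 12), (true, 3), (true, 6), (true, 16), (false, 22), (true, 20), (false, 0)], .cnt 0 [0], .cell [(true, 11), (false, 22), (true, 8), (true, 23)], .cnt 0 [0], .fin [26, 25, 10, 7, 0, 4, 27, 22, 2, 24, 20, 21, 16, 18, 12, 15,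 14, 9, 6, 13]] 9071 = true := by decide +kernel

theorem sg10 : chkSig 552 10 row 10 p10 key [216, 552, 0] = true := by decide +kernel

theorem ch10 : chkX 552 10 row 10 p10 1102248 = true := chkX_of (by decide +kernel)

theorem cm10 : chkC 552 10 gens p10 [2] [0, 7] = true := by decide +kernel

theorem fo10 : chk4 10 gens bs p10 [0, 0] [0, 0]
    [0, 0, 15, 8] [1, 2, 4, 6] = true := by decide +kernel

theorem qa10 : chkQ 10 gens bs p10 23 [2, 0, 7, 1, 3]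
    [11, 9, 10, 15, 8] = true := by decide +kernel

theorem qb10 : chkQ 10 gens bs p10 11 [2, 0, 7, 3, 6]
    [14, 11, 10, 15, 8] = true := by decide +kernel

theorem bd14 : chkB 552 10 row 10 p14 [(false, 2), (true, 1), (true, 2), (true, 3)]
    [.cell [(true, 2), (true, 1), (false, 0)], .base 0 20 12, .cell [(false, 14), (false, 11), (false, 8), (false, 4), (true, 9), (false, 15), (false, 13)], .cnt 0 [0], .cell [(false, 16), (true, 13), (true, 10), (true, 6), (true, 4), (false, 12)], .cnt 0 [0], .fin [15, 14, 18, 17, 6, 5, 4, 10, 11, 7, 13, 12, 8, 2, 9, 19, 0]] 43 = true := by decide +kernel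

theorem sg14 : chkSig 552 10 row 10 p14 key [220, 0, 2] = true := by decide +kernel

theorem ch14 : chkX 552 10 row 10 p14 267740 = true := chkX_of (by decide +kernel)

theorem cm14 : chkC 552 10 gens p14 [7, 2] [5, 0] = true := by decide +kernel

theorem fo14 : chk4 10 gens bs p14 [0, 15] [0, 0]
    [2, 4, 6] [4, 6, 13, 7, 5] = true := by decide +kernel

theorem qa14 : chkQ 10 gens bs p14 23 [3, 13, 7, 4]
    [12, 15, 5, 11, 7, 2, 5, 0, 10, 15, 8, 13] = true := by decide +kernel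

theorem qb14 : chkQ 10 gens bs p14 11 [7, 1, 2, 3]
    [11, 10, 9, 2, 5, 0, 10, 15, 8, 13] = true := by decide +kernel

theorem bd18 : chkB 552 10 row 10 p18 [(false, 1), (false, 2), (false, 3), (false, 6), (true, 1), (true, 3), (true, 5)]
    [.cell [(true, 2), (true, 0), (false, 3)], .base 0 25 12, .cell [(true, 16), (true, 14), (true, 11), (false, 8), (true, 7)], .cnt 0 [0], .cell [(true, 15), (true, 12), (false, 7), (false, 11), (true, 9), (false, 10)], .cnt 0 [0], .cell [(false, 18), (true, 19), (true, 15), (true, 2), (true, 7), (false, 20), (true, 12)], .cnt 0 [0], .cell [(true, 21), (true, 10), (false, 11), (false, 15), (true, 4), (false, 19), (true, 20), (true, 2)], .cnt 0 [0], .cell [(true, 21), (true, 19), (true, 6), (true, 2), (false, 0), (true, 8)], .cnt 0 [0], .fin [21, 25, 23, 19, 2, 4, 6, 17, 10, 20, 24, 8, 18, 16, 15, 0, 28]] 95 = true := by decide +kernel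

theorem sg18 : chkSig 552 10 row 10 p18 key [264, 16, 12] = true := by decide +kernel

theorem ch18 : chkX 552 10 row 10 p18 475584 = true := chkX_of (by decide +kernel)

theorem cm18 : chkC 552 10 gens p18 [3] [4, 7] = true := by decide +kernel

theorem fo18 : chk4 10 gens bs p18 [0, 1, 4] [0, 1, 12]
    [0, 3, 7, 1, 7, 3] [0, 7, 1, 7] = true := by decide +kernel

theorem qa18 : chkQ 10 gens bs p18 23 [3, 4, 7, 5]
    [13, 11, 15, 12] = true := by decide +kernel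

theorem qb18 : chkQ 10 gens bs p18 11 [3, 2, 14, 15]
    [7, 6, 10, 4, 7, 11, 15, 12] = true := by decide +kernel

theorem bd22 : chkB 552 10 row 10 p22 [(true, 1), (true, 2), (true, 3)]
    [.cell [(true, 2), (false, 1), (true, 0)], .base 0 3 12, .cell [(true, 11), (true, 9), (false, 8), (true, 5), (false, 15), (true, 4), (true, 10)], .cnt 0 [0], .cell [(true, 12), (true, 7), (false, 16), (true, 6), (false, 17), (false, 15)], .cnt 0 [0], .fin [19, 18, 15, 0, 6, 12, 17, 2, 7, 11, 8, 5, 14, 13, 9, 10]] 45 = true := by decide +kernel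

theorem sg22 : chkSig 552 10 row 10 p22 key [276, 0, 0] = true := by decide +kernel

theorem ch22 : chkX 552 10 row 10 p22 387090 = true := chkX_of (by decide +kernel)

theorem cm22 : chkC 552 10 gens p22 [3, 6, 2] [1, 7] = true := by decide +kernel

theorem fo22 : chk4 10 gens bs p22 [7, 0, 7] [3, 7, 10, 15, 3]
    [3, 1, 2, 3, 6] [0, 7, 12, 7] = true := by decide +kernel

theorem qa22 : chkQ 10 gens bs p22 23 [5, 7, 4, 3]
    [11, 12, 15, 13, 3, 6, 2, 1, 7, 10, 14, 11, 15, 9] = true := by decide +kernel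

theorem qb22 : chkQ 10 gens bs p22 11 [3, 2, 4, 7]
    [15, 12, 10, 6, 2, 1, 7, 10, 14, 11, 15, 9] = true := by decide +kernel

theorem bd26 : chkB 552 10 row 10 p26 [(false, 1), (false, 2), (false, 3), (true, 1), (true, 2)]
    [.cell [(false, 1), (false, 2)], .base 0 0 6, .cell [(false, 7), (false, 5), (true, 3), (true, 4), (false, 9), (true, 0)], .base 0 146 6, .cell [(true, 13), (true, 12), (false, 1), (false, 0), (false, 5), (false, 9), (true, 4)], .cnt 0 [1, 0], .cell [(true, 1), (true, 14), (false, 11), (true, 15), (true, 5), (true, 17)], .cnt 0 [0], .cell [(true, 3), (false, 17), (true, 14), (true, 13), (false, 12), (true, 9), (true, 19)], .cnt 0 [0], .cell [(true, 20), (true, 5), (true, 18), (true, 17), (false, 14), (false, 2)], .cnt 0 [0], .cell [(true, 6), (true, 21), (false, 18), (true, 20), (true, 4)], .cnt 0 [0], .fin [23, 26, 15, 9, 21, 6, 12, 13, 4, 0, 2, 19, 18, 11, 22, 20, 27]]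 431 = true := by decide +kernel

theorem sg26 : chkSig 552 10 row 10 p26 key [318, 72, 30] = true := by decide +kernel

theorem ch26 : chkX 552 10 row 10 p26 1521774 = true := chkX_of (by decide +kernel)

theorem cm26 : chkC 552 10 gens p26 [7] [2, 1] = true := by decide +kernel

theorem fo26 : chk4 10 gens bs p26 [0, 0] [0, 0]
    [2, 4, 14] [1, 15, 2, 4, 7, 1] = true := by decide +kernel

theorem qa26 : chkQ 10 gens bs p26 23 [3, 5, 7, 4]
    [12, 15, 13, 11, 7, 2, 1, 15, 9, 10] = true := by decide +kernel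

theorem qb26 : chkQ 10 gens bs p26 11 [7, 1, 2, 5]
    [13, 10, 9, 2, 1, 15, 9, 10] = true := by decide +kernel

theorem bd30 : chkB 552 10 row 10 p30 [(false, 1), (true, 1), (true, 2), (true, 3)]
    [.cell [(false, 2), (true, 1), (true, 0)], .base 0 18 11, .cell [(true, 11), (true, 9), (true, 8), (false, 5), (true, 6), (true, 1)], .cnt 0 [0], .cell [(true, 13), (true, 10), (true, 0), (true, 5), (true, 7)], .cnt 0 [0], .cell [(true, 15), (true, 14), (true, 4), (true, 11), (true, 9), (false, 8)], .cnt 0 [0], .fin [16, 14, 20, 19, 0, 8, 11, 4, 6, 13, 2, 7, 15, 10, 12, 9]] 43 = true := by decide +kernel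

theorem sg30 : chkSig 552 10 row 10 p30 key [330, 2, 2] = true := by decide +kernel

theorem ch30 : chkX 552 10 row 10 p30 681560 = true := chkX_of (by decide +kernel)

theorem cm30 : chkC 552 10 gens p30 [2, 5] [7] = true := by decide +kernel

theorem fo30 : chk4 10 gens bs p30 [0, 1, 4] [1, 2, 4]
    [5, 7, 10, 15, 5] [0, 15] = true := by decide +kernel

theorem qa30 : chkQ 10 gens bs p30 23 [3, 5, 12, 15]
    [7, 4, 13, 11, 2, 5, 7, 13, 10, 15] = true := by decide +kernel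

theorem qb30 : chkQ 10 gens bs p30 11 [2, 5, 7, 1]
    [9, 13, 10, 15] = true := by decide +kernel

theorem bd34 : chkB 552 10 row 10 p34 [(false, 1), (false, 3), (true, 1), (true, 2), (true, 4)]
    [.cell [(false, 1), (false, 3)], .base 0 3 9, .cell [(true, 9), (true, 7), (true, 5), (false, 8), (false, 3), (true, 2), (true, 6), (true, 1)], .cnt 0 [2, 1, 3], .cell [(true, 2), (true, 13), (false, 12), (false, 5), (true, 10), (false, 8)], .cnt 0 [1, 0], .cell [(true, 3), (false, 18), (false, 13), (false, 11), (true, 10)], .cnt 0 [0], .cell [(true, 6), (false, 19), (true, 16), (false, 9), (true, 17), (true, 12)], .cnt 0 [0], .fin [19, 18, 5, 2, 16, 14, 0, 11, 12, 15, 22, 17, 9, 7, 4, 8, 23]] 161 = true := by decide +kernel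

theorem sg34 : chkSig 552 10 row 10 p34 key [378, 12, 6] = true := by decide +kernel

theorem ch34 : chkX 552 10 row 10 p34 660474 = true := chkX_of (by decide +kernel)

theorem cm34 : chkC 552 10 gens p34 [7] [3, 7, 6] = true := by decide +kernel

theorem fo34 : chk4 10 gens bs p34 [8, 7] [0, 15]
    [0, 1, 4] [0, 3, 7, 14, 7, 3] = true := by decide +kernel

theorem qa34 : chkQ 10 gens bs p34 23 [7, 3, 6, 5, 12]
    [4, 13, 14, 7, 6, 15, 14, 15, 11] = true := by decide +kernel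

theorem qb34 : chkQ 10 gens bs p34 11 [1, 2, 7, 5]
    [13, 15, 10, 9, 7, 3, 7, 6, 15, 14, 15, 11] = true := by decide +kernel

theorem bd38 : chkB 552 10 row 10 p38 [(false, 1), (true, 1), (true, 2)]
    [.base 2 24 1, .cell [(true, 3), (true, 0)], .cnt 0 [2, 3, 1, 0], .cell [(false, 7), (true, 3), (false, 8)], .base 0 3 5, .cell [(true, 5), (false, 3), (true, 0), (true, 4), (true, 2)], .cnt 0 [2, 3, 0], .cell [(true, 11), (false, 8), (true, 6), (true, 5), (false, 2)], .cnt 0 [1, 0], .cell [(false, 19), (true, 5), (true, 0), (false, 11), (false, 16), (false, 10)], .cnt 0 [2, 3, 1, 4], .cell [(true, 0), (false, 25), (true, 15), (false, 6)], .cnt 0 [0], .cell [(true, 10), (true, 5), (false, 27), (false, 22)], .cnt 0 [0], .fin [27, 2, 10, 18, 20, 0, 14, 19, 16, 17, 6, 7, 24, 25, 29, 23, 5, 28, 4, 9, 13, 12]] 599 = true := by decide +kernel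

theorem sg38 : chkSig 552 10 row 10 p38 key [420, 12, 552] = true := by decide +kernel

theorem ch38 : chkX 552 10 row 10 p38 1732200 = true := chkX_of (by decide +kernel)

theorem cm38 : chkC 552 10 gens p38 [0, 7] [5] = true := by decide +kernel

theorem fo38 : chk4 10 gens bs p38 [0, 0] [8, 7]
    [0, 0] [0, 13, 7, 5] = true := by decide +kernel

theorem qa38 : chkQ 10 gens bs p38 23 [0, 7, 1, 2, 3]
    [11, 10, 9, 5, 15, 8, 13] = true := by decide +kernel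

theorem qb38 : chkQ 10 gens bs p38 11 [0, 7, 1, 3, 5]
    [13, 11, 9, 5, 15, 8, 13] = true := by decide +kernel

end Cfsg.Agent.H763.Co3.Dat
end

-- part: H763/Co3/Fin
section
set_option linter.all false
open scoped Cfsg.Agent.FastGrp

-- part: H763/Co3/C3
section
set_option autoImplicit false
set_option maxRecDepth 1000000
set_option exponentiation.threshold 5000

namespace Cfsg.Agent.H763.Co3.Dat

open Cfsg.Agent.H123.Cls Cfsg.Agent.H763.Cls

theorem bd3 : chkB 552 10 row 10 p3 [(false, 2), (false, 4), (true, 1), (true, 2), (true, 3)]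
    [.cell [(true, 1), (false, 2), (false, 0)], .base 0 29 8, .cell [(true, 9), (false, 7), (true, 5), (true, 4), (false, 1)], .base 0 335 8, .cell [(false, 19), (false, 16), (false, 15), (false, 13), (false, 9), (true, 7)], .cnt 0 [0], .cell [(true, 22), (false, 18), (true, 4), (false, 9), (true, 15)], .cnt 0 [0], .cell [(true, 22), (true, 10), (false, 5), (false, 20), (true, 18), (false, 25)], .cnt 0 [0], .fin [22, 20, 21, 19, 17, 8, 9, 18, 16, 7, 15, 23, 4, 10, 2, 0]] 383 = true := by decide +kernel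

theorem sg3 : chkSig 552 10 row 10 p3 key [120, 0, 16] = true := by decide +kernel

theorem ch3 : chkX 552 10 row 10 p3 156696 = true := chkX_of (by decide +kernel)

theorem cm3 : chkC 552 10 gens p3 [6, 3] [4, 1, 5] = true := by decide +kernel

theorem fo3 : chk4 10 gens bs p3 [0, 1, 6] [0, 15]
    [6, 15, 2, 6, 7, 6] [1, 2, 5] = true := by decide +kernel

theorem qa3 : chkQ 10 gens bs p3 23 [0, 1, 3, 2, 15]
    [7, 10, 11, 9, 8, 6, 3, 4, 1, 5, 11, 14, 13, 9, 12] = true := by decide +kernel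

theorem qb3 : chkQ 10 gens bs p3 11 [6, 15, 2, 3]
    [11, 10, 7, 3, 4, 1, 5, 11, 14, 13, 9, 12] = true := by decide +kernel

theorem bd7 : chkB 552 10 row 10 p7 [(false, 2), (false, 6), (true, 1), (true, 5)]
    [.cell [(true, 1), (false, 2)], .base 0 5 12, .cell [(true, 11), (true, 8), (false, 9), (false, 2), (false, 7), (true, 0)], .base 0 50 12, .cell [(true, 25), (true, 19), (false, 20), (false, 11), (false, 15), (true, 16)], .cnt 0 [0], .cell [(true, 25), (true, 18), (false, 24), (true, 23), (false, 28), (false, 10)], .cnt 0 [0], .fin [28, 27, 24, 23, 11, 8, 0, 6, 20, 4, 21, 13, 2, 14, 25, 29, 26, 15]] 287 = true := by decide +kernel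

theorem sg7 : chkSig 552 10 row 10 p7 key [172, 0, 12] = true := by decide +kernel

theorem ch7 : chkX 552 10 row 10 p7 124560 = true := chkX_of (by decide +kernel)

theorem cm7 : chkC 552 10 gens p7 [2, 5] [7, 3] = true := by decide +kernel

theorem fo7 : chk4 10 gens bs p7 [0, 0] [1, 2, 5]
    [14, 7, 3, 7, 14, 7] [4, 15, 6, 15, 5, 15] = true := by decide +kernel

theorem qa7 : chkQ 10 gens bs p7 23 [3, 4, 7, 13]
    [5, 15, 12, 11, 2, 5, 7, 3, 13, 10, 11, 15] = true := by decide +kernel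

theorem qb7 : chkQ 10 gens bs p7 11 [2, 5, 7, 12]
    [4, 3, 13, 10, 11, 15] = true := by decide +kernel

theorem bd11 : chkB 552 10 row 10 p11 [(true, 1), (true, 2), (true, 3)]
    [.cell [(true, 0), (false, 1)], .base 0 0 6, .cell [(true, 9), (true, 5), (false, 2), (false, 0), (false, 8), (false, 3), (false, 1)], .cnt 0 [2, 4, 1, 5], .cell [(true, 2), (true, 11), (false, 9), (true, 5)], .cnt 0 [1, 0], .cell [(true, 6), (true, 16), (true, 13), (false, 9), (false, 15), (true, 8)], .cnt 0 [0], .cell [(true, 6), (false, 12), (true, 18), (false, 17), (true, 10), (true, 0), (true, 13)], .cnt 0 [0], .cell [(true, 20), (true, 5), (false, 0), (true, 16), (true, 15), (false, 21), (true, 17)], .cnt 0 [0], .cell [(true, 10), (false, 14), (true, 7), (true, 0), (true, 22)], .cnt 0 [0], .fin [21, 23, 2, 9, 16, 24, 6, 20, 0, 4, 18, 17, 8, 14, 13, 25, 12, 19, 11]] 143 = true := by decide +kernel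

theorem sg11 : chkSig 552 10 row 10 p11 key [216, 0, 0] = true := by decide +kernel

theorem ch11 : chkX 552 10 row 10 p11 198720 = true := chkX_of (by decide +kernel)

theorem cm11 : chkC 552 10 gens p11 [2, 7] [1, 0] = true := by decide +kernel

theorem fo11 : chk4 10 gens bs p11 [0, 0] [0, 0]
    [0, 4, 14] [1, 7, 2, 12, 15, 1] = true := by decide +kernel

theorem qa11 : chkQ 10 gens bs p11 23 [2, 7, 11, 7, 11]
    [3, 15, 3, 1, 0, 15, 10, 8, 9] = true := by decide +kernel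

theorem qb11 : chkQ 10 gens bs p11 11 [2, 7, 1, 5]
    [13, 0, 15, 10, 8, 9] = true := by decide +kernel

theorem bd15 : chkB 552 10 row 10 p15 [(false, 2), (true, 1), (true, 2), (true, 3)]
    [.cell [(false, 1), (true, 0), (false, 3)], .base 0 74 10, .cell [(false, 12), (true, 13), (true, 9), (false, 6), (false, 4), (true, 5)], .cnt 0 [0], .cell [(true, 15), (true, 13), (false, 11), (true, 8), (true, 7), (true, 0)], .cnt 0 [0], .cell [(true, 12), (true, 11), (true, 9), (false, 6), (false, 15), (false, 7), (false, 4), (true, 2)], .cnt 0 [0], .fin [15, 12, 19, 10, 8, 0, 13, 7, 4, 17, 14, 9, 11, 2, 6]] 39 = true := by decide +kernel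

theorem sg15 : chkSig 552 10 row 10 p15 key [224, 0, 552] = true := by decide +kernel

theorem ch15 : chkX 552 10 row 10 p15 414736 = true := chkX_of (by decide +kernel)

theorem cm15 : chkC 552 10 gens p15 [6, 2] [7, 5] = true := by decide +kernel

theorem fo15 : chk4 10 gens bs p15 [0, 4, 6] [0, 3, 6]
    [3, 7, 2, 15, 3] [15, 1, 2, 4, 7] = true := by decide +kernel

theorem qa15 : chkQ 10 gens bs p15 23 [3, 7, 4, 13]
    [5, 12, 15, 11, 6, 2, 7, 5, 10, 14, 13, 15] = true := by decide +kernel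

theorem qb15 : chkQ 10 gens bs p15 11 [6, 7, 2, 3]
    [11, 10, 15, 2, 7, 5, 10, 14, 13, 15] = true := by decide +kernel

theorem bd19 : chkB 552 10 row 10 p19 [(false, 1), (false, 2), (false, 7), (true, 1), (true, 2), (true, 3)]
    [.cell [(false, 1), (true, 2), (true, 0), (false, 4)], .base 0 48 12, .cell [(true, 16), (false, 15), (true, 13), (true, 11), (false, 7), (false, 9)], .cnt 0 [0], .cell [(true, 17), (false, 15), (true, 16), (true, 13), (true, 0), (false, 11), (true, 9)], .cnt 0 [0], .cell [(true, 15), (true, 13), (false, 12), (false, 10), (false, 19), (false, 17), (false, 9)], .cnt 0 [0], .fin [17, 21, 19, 0, 9, 4, 12, 14, 8, 7, 11, 2, 13, 16, 15, 6, 22]] 27 = true := by decide +kernel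

theorem sg19 : chkSig 552 10 row 10 p19 key [270, 2, 6] = true := by decide +kernel

theorem ch19 : chkX 552 10 row 10 p19 487740 = true := chkX_of (by decide +kernel)

theorem cm19 : chkC 552 10 gens p19 [7] [5, 4, 3] = true := by decide +kernel

theorem fo19 : chk4 10 gens bs p19 [0, 15] [0, 1, 5]
    [0, 3, 15, 3] [0, 1, 13] = true := by decide +kernel

theorem qa19 : chkQ 10 gens bs p19 23 [4, 3, 5, 15]
    [7, 13, 11, 12, 7, 5, 4, 3, 15, 11, 12, 13] = true := by decide +kernel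

theorem qb19 : chkQ 10 gens bs p19 11 [7, 2, 5, 6]
    [14, 13, 10, 5, 4, 3, 15, 11, 12, 13] = true := by decide +kernel

theorem bd23 : chkB 552 10 row 10 p23 [(false, 3), (false, 5), (true, 1), (true, 2), (true, 3)]
    [.cell [(false, 0), (true, 1), (false, 4)], .base 0 80 12, .cell [(true, 11), (true, 3), (false, 1), (false, 8), (true, 15), (true, 2), (false, 6)], .cnt 0 [0], .cell [(false, 15), (true, 12), (true, 9), (false, 13), (false, 11), (true, 10), (false, 16)], .cnt 0 [0], .cell [(false, 17), (true, 14), (true, 7), (false, 9), (false, 11), (true, 5), (true, 8)], .cnt 0 [0], .fin [21, 17, 20, 4, 6, 11, 14, 2, 9, 10, 13, 7, 15, 0, 19, 16, 12]] 29 = true := by decide +kernel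

theorem sg23 : chkSig 552 10 row 10 p23 key [276, 12, 30] = true := by decide +kernel

theorem ch23 : chkX 552 10 row 10 p23 539010 = true := chkX_of (by decide +kernel)

theorem cm23 : chkC 552 10 gens p23 [6, 3] [7, 2] = true := by decide +kernel

theorem fo23 : chk4 10 gens bs p23 [0, 1, 4] [0, 1, 12]
    [0, 3, 7, 12, 7, 3] [0, 6, 7, 4, 7, 6] = true := by decide +kernel

theorem qa23 : chkQ 10 gens bs p23 23 [3, 4, 7, 5]
    [13, 15, 12, 11, 6, 3, 7, 2, 11, 14, 10, 15] = true := by decide +kernel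

theorem qb23 : chkQ 10 gens bs p23 11 [6, 13, 15, 2]
    [10, 7, 5, 3, 7, 2, 11, 14, 10, 15] = true := by decide +kernel

theorem bd27 : chkB 552 10 row 10 p27 [(false, 1), (false, 2), (false, 4), (true, 1), (true, 2), (true, 3)]
    [.cell [(false, 2), (true, 0), (true, 1)], .base 0 0 8, .cell [(true, 6), (false, 4), (false, 1), (true, 11), (true, 0), (false, 5), (true, 9), (true, 2)], .cnt 0 [1, 0], .cell [(true, 1), (true, 7), (false, 5), (false, 10), (true, 6), (true, 14), (false, 8), (true, 4)], .cnt 0 [1, 0], .cell [(true, 3), (true, 12), (false, 7), (true, 1), (true, 13)], .cnt 0 [0], .cell [(true, 16), (true, 6), (true, 15), (true, 8), (false, 14)], .cnt 0 [0], .cell [(true, 18), (true, 8), (false, 0), (false, 14), (true, 16)], .cnt 0 [0], .fin [19, 21, 7, 2, 18, 17, 10, 0, 23, 15, 4, 14, 22, 16, 12, 13, 6, 25, 9]] 63 = true := by decide +kernel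

theorem sg27 : chkSig 552 10 row 10 p27 key [324, 4, 16] = true := by decide +kernel

theorem ch27 : chkX 552 10 row 10 p27 1070608 = true := chkX_of (by decide +kernel)

theorem cm27 : chkC 552 10 gens p27 [2] [3, 7] = true := by decide +kernel

theorem fo27 : chk4 10 gens bs p27 [0, 1, 4] [0, 1, 6]
    [2, 4, 14] [3, 7, 2, 15, 3] = true := by decide +kernel

theorem qa27 : chkQ 10 gens bs p27 23 [2, 3, 7, 6, 5]
    [13, 14, 10, 15, 11] = true := by decide +kernel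

theorem qb27 : chkQ 10 gens bs p27 11 [2, 3, 7, 1]
    [9, 10, 15, 11] = true := by decide +kernel

theorem bd31 : chkB 552 10 row 10 p31 [(false, 6), (true, 1), (true, 2), (true, 3), (true, 4)]
    [.cell [(true, 1), (true, 2), (false, 0)], .base 0 95 12, .cell [(true, 7), (false, 10), (false, 6), (false, 5), (false, 0), (false, 14)], .cnt 0 [0], .cell [(true, 15), (true, 13), (false, 12), (false, 4), (false, 11), (true, 18), (false, 17)], .cnt 0 [0], .fin [15, 14, 17, 8, 13, 7, 12, 2, 0, 20, 5, 11, 4, 10, 6, 9]] 35 = true := by decide +kernel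

theorem sg31 : chkSig 552 10 row 10 p31 key [336, 0, 0] = true := by decide +kernel

theorem ch31 : chkX 552 10 row 10 p31 404820 = true := chkX_of (by decide +kernel)

theorem cm31 : chkC 552 10 gens p31 [7, 3] [2, 0] = true := by decide +kernel

theorem fo31 : chk4 10 gens bs p31 [0, 0] [0, 1, 14]
    [8, 7, 3, 14, 7] [2, 7, 4, 7, 14, 7] = true := by decide +kernel

theorem qa31 : chkQ 10 gens bs p31 23 [7, 3, 5, 4]
    [12, 13, 2, 0, 11, 15, 8, 10] = true := by decide +kernel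

theorem qb31 : chkQ 10 gens bs p31 11 [1, 10, 7, 13]
    [5, 15, 2, 9, 7, 3, 2, 0, 11, 15, 8, 10] = true := by decide +kernel

theorem bd35 : chkB 552 10 row 10 p35 [(false, 1), (true, 1), (true, 2), (true, 3)]
    [.cell [(false, 1), (true, 2), (true, 0)], .base 0 29 7, .cell [(true, 6), (false, 5), (true, 2), (true, 10), (false, 1), (true, 9), (true, 0)], .cnt 0 [2, 1, 3], .cell [(true, 0), (false, 14), (false, 13), (true, 9), (false, 7)], .cnt 0 [1, 0], .cell [(true, 4), (false, 16), (true, 10), (false, 9), (false, 15)], .cnt 0 [0], .cell [(true, 16), (true, 7), (true, 2), (false, 12), (false, 0)], .cnt 0 [0], .cell [(true, 9), (true, 5), (false, 17), (true, 14), (false, 15), (false, 13)], .cnt 0 [0], .fin [19, 18, 7, 0, 4, 15, 2, 13, 23, 21, 14, 11, 22, 9, 10, 16, 17, 6]] 83 = true := by decide +kernel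

theorem sg35 : chkSig 552 10 row 10 p35 key [378, 6, 6] = true := by decide +kernel

theorem ch35 : chkX 552 10 row 10 p35 1055460 = true := chkX_of (by decide +kernel)

theorem cm35 : chkC 552 10 gens p35 [7] [5, 3] = true := by decide +kernel

theorem fo35 : chk4 10 gens bs p35 [0, 0] [0, 0]
    [0, 15] [0, 3, 13, 15, 3, 5] = true := by decide +kernel

theorem qa35 : chkQ 10 gens bs p35 23 [7, 3, 5, 4]
    [12, 13, 11, 5, 3, 15, 11, 13] = true := by decide +kernel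

theorem qb35 : chkQ 10 gens bs p35 11 [1, 2, 7, 5]
    [13, 15, 10, 9, 7, 5, 3, 15, 11, 13] = true := by decide +kernel

theorem bd39 : chkB 552 10 row 10 p39 [(false, 1), (false, 3)]
    [.cell [(true, 0), (false, 1)], .base 0 0 3, .cell [(true, 2), (true, 1), (false, 0), (false, 4)], .base 0 7 6, .cell [(true, 9), (true, 1), (false, 0), (false, 8), (false, 7), (false, 4)], .base 0 127 6, .cell [(true, 16), (true, 11), (false, 15), (false, 14), (false, 5), (true, 7), (false, 3)], .cnt 0 [1, 0], .cell [(true, 18), (true, 10), (false, 19), (false, 17), (true, 14), (false, 6), (false, 13), (false, 8)], .cnt 0 [0], .cell [(true, 22), (true, 21), (true, 8), (false, 19), (true, 15), (true, 10)], .cnt 0 [0], .cell [(true, 5), (false, 23), (true, 16), (false, 7), (true, 21), (false, 17)], .cnt 0 [0], .fin [25, 21, 7, 2, 23, 17, 11, 13, 24, 18, 0, 10, 20, 4, 14, 27, 19]] 8639 = true := by decide +kernel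

theorem sg39 : chkSig 552 10 row 10 p39 key [480, 72, 12] = true := by decide +kernel

theorem ch39 : chkX 552 10 row 10 p39 881280 = true := chkX_of (by decide +kernel)

theorem cm39 : chkC 552 10 gens p39 [5, 2] [4] = true := by decide +kernel

theorem fo39 : chk4 10 gens bs p39 [0, 0] [0, 0]
    [0, 1, 4] [0, 1, 13] = true := by decide +kernel

theorem qa39 : chkQ 10 gens bs p39 23 [5, 6, 7, 3, 15]
    [7, 11, 15, 14, 2, 4, 10, 13, 12] = true := by decide +kernel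

theorem qb39 : chkQ 10 gens bs p39 11 [2, 6, 7, 11]
    [3, 15, 14, 10, 5, 2, 4, 10, 13, 12] = true := by decide +kernel

end Cfsg.Agent.H763.Co3.Dat
end

-- part: H763/Co3/Fin
section
/-!
# The classes of `Co3` (helper763)

`cov` : the 42 classes; `ore_co3` (S2443), `four_co3` (S4171), `pw_co3` (S2465), `sq_co3` (S2453).
-/

set_option autoImplicit false
set_option maxRecDepth 1000000
set_option exponentiation.threshold 5000

namespace Cfsg.Agent.H763.Co3.Fin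

open Cfsg Cfsg.Agent.H123.Cls Cfsg.Agent.H763.Cls Cfsg.Agent.H763.Co3.Dat Cfsg.Agent.Lib.BitNet
open Cfsg.Agent.H763.Co3.Model (N A2 A_conj A_le card_A card_N tabs_ok eq_one_of_base ψ ψ_injective)

theorem base_ok : Base N bs := by
  refine ⟨?_, fun g hg h => eq_one_of_base hg h⟩
  intro b hb
  simp only [bs, List.mem_cons, List.not_mem_nil, or_false] at hb
  rcases hb with rfl | rfl | rfl | rfl | rfl | rfl <;> norm_num

/-- the certificates of an entry -/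
structure Ok (x : ℕ × ℕ × List ℕ) : Prop where
  bd : ∃ l L, chkB 552 10 row 10 x.1 l L x.2.1 = true
  sg : ∃ c cs, x.2.2 = c :: cs ∧ chkX 552 10 row 10 x.1 c = true ∧ chkSig 552 10 row 10 x.1 key cs = true ∧
    cs.length = key.length
  cm : ∃ a b, chkC 552 10 gens x.1 a b = true
  fo : ∃ a b c d, chk4 10 gens bs x.1 a b c d = true
  qa : ∃ a b, chkQ 10 gens bs x.1 23 a b = true
  qb : ∃ a b, chkQ 10 gens bs x.1 11 a b = true

theorem D_ok : ∀ x ∈ D, Ok x :=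
  List.forall_mem_cons.2 ⟨⟨⟨_, _, bd0⟩, ⟨_, _, rfl, ch0, sg0, rfl⟩, ⟨_, _, cm0⟩, ⟨_, _, _, _, fo0⟩, ⟨_, _, qa0⟩, ⟨_, _, qb0⟩⟩, List.forall_mem_cons.2 ⟨⟨⟨_, _, bd1⟩, ⟨_, _, rfl, ch1, sg1, rfl⟩, ⟨_, _, cm1⟩, ⟨_, _, _, _, fo1⟩, ⟨_, _, qa1⟩, ⟨_, _, qb1⟩⟩, List.forall_mem_cons.2 ⟨⟨⟨_, _, bd2⟩, ⟨_, _, rfl, ch2, sg2, rfl⟩, ⟨_, _, cm2⟩, ⟨_, _, _, _, fo2⟩, ⟨_, _, qa2⟩, ⟨_, _, qb2⟩⟩, List.forall_mem_cons.2 ⟨⟨⟨_, _, bd3⟩, ⟨_, _, rfl, ch3, sg3, rfl⟩, ⟨_, _, cm3⟩, ⟨_, _, _, _, fo3⟩, ⟨_, _, qa3⟩, ⟨_, _, qb3⟩⟩, 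
  List.forall_mem_cons.2 ⟨⟨⟨_, _, bd4⟩, ⟨_, _, rfl, ch4, sg4, rfl⟩, ⟨_, _, cm4⟩, ⟨_, _, _, _, fo4⟩, ⟨_, _, qa4⟩, ⟨_, _, qb4⟩⟩, List.forall_mem_cons.2 ⟨⟨⟨_, _, bd5⟩, ⟨_, _, rfl, ch5, sg5, rfl⟩, ⟨_, _, cm5⟩, ⟨_, _, _, _, fo5⟩, ⟨_, _, qa5⟩, ⟨_, _, qb5⟩⟩, List.forall_mem_cons.2 ⟨⟨⟨_, _, bd6⟩, ⟨_, _, rfl, ch6, sg6, rfl⟩, ⟨_, _, cm6⟩, ⟨_, _, _, _, fo6⟩, ⟨_, _, qa6⟩, ⟨_, _, qb6⟩⟩, List.forall_mem_cons.2 ⟨⟨⟨_, _, bd7⟩, ⟨_, _, rfl, ch7, sg7, rfl⟩, ⟨_, _, cm7⟩, ⟨_, _, _, _, fo7⟩, ⟨_, _, qa7⟩, ⟨_, _, qb7⟩⟩, 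
  List.forall_mem_cons.2 ⟨⟨⟨_, _, bd8⟩, ⟨_, _, rfl, ch8, sg8, rfl⟩, ⟨_, _, cm8⟩, ⟨_, _, _, _, fo8⟩, ⟨_, _, qa8⟩, ⟨_, _, qb8⟩⟩, List.forall_mem_cons.2 ⟨⟨⟨_, _, bd9⟩, ⟨_, _, rfl, ch9, sg9, rfl⟩, ⟨_, _, cm9⟩, ⟨_, _, _, _, fo9⟩, ⟨_, _, qa9⟩, ⟨_, _, qb9⟩⟩, List.forall_mem_cons.2 ⟨⟨⟨_, _, bd10⟩, ⟨_, _, rfl, ch10, sg10, rfl⟩, ⟨_, _, cm10⟩, ⟨_, _, _, _, fo10⟩, ⟨_, _, qa10⟩, ⟨_, _, qb10⟩⟩, List.forall_mem_cons.2 ⟨⟨⟨_, _, bd11⟩, ⟨_, _, rfl, ch11, sg11, rfl⟩, ⟨_, _, cm11⟩, ⟨_, _, _, _, fo11⟩, ⟨_, _, qa11⟩, ⟨_, _, qb11⟩⟩, 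
  List.forall_mem_cons.2 ⟨⟨⟨_, _, bd12⟩, ⟨_, _, rfl, ch12, sg12, rfl⟩, ⟨_, _, cm12⟩, ⟨_, _, _, _, fo12⟩, ⟨_, _, qa12⟩, ⟨_, _, qb12⟩⟩, List.forall_mem_cons.2 ⟨⟨⟨_, _, bd13⟩, ⟨_, _, rfl, ch13, sg13, rfl⟩, ⟨_, _, cm13⟩, ⟨_, _, _, _, fo13⟩, ⟨_, _, qa13⟩, ⟨_, _, qb13⟩⟩, List.forall_mem_cons.2 ⟨⟨⟨_, _, bd14⟩, ⟨_, _, rfl, ch14, sg14, rfl⟩, ⟨_, _, cm14⟩, ⟨_, _, _, _, fo14⟩, ⟨_, _, qa14⟩, ⟨_, _, qb14⟩⟩, List.forall_mem_cons.2 ⟨⟨⟨_, _, bd15⟩, ⟨_, _, rfl, ch15, sg15, rfl⟩, ⟨_, _, cm15⟩, ⟨_, _, _, _, fo15⟩, ⟨_, _, qa15⟩, ⟨_, _, qb15⟩⟩, 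
  List.forall_mem_cons.2 ⟨⟨⟨_, _, bd16⟩, ⟨_, _, rfl, ch16, sg16, rfl⟩, ⟨_, _, cm16⟩, ⟨_, _, _, _, fo16⟩, ⟨_, _, qa16⟩, ⟨_, _, qb16⟩⟩, List.forall_mem_cons.2 ⟨⟨⟨_, _, bd17⟩, ⟨_, _, rfl, ch17, sg17, rfl⟩, ⟨_, _, cm17⟩, ⟨_, _, _, _, fo17⟩, ⟨_, _, qa17⟩, ⟨_, _, qb17⟩⟩, List.forall_mem_cons.2 ⟨⟨⟨_, _, bd18⟩, ⟨_, _, rfl, ch18, sg18, rfl⟩, ⟨_, _, cm18⟩, ⟨_, _, _, _, fo18⟩, ⟨_, _, qa18⟩, ⟨_, _, qb18⟩⟩, List.forall_mem_cons.2 ⟨⟨⟨_, _, bd19⟩, ⟨_, _, rfl, ch19, sg19, rfl⟩, ⟨_, _, cm19⟩, ⟨_, _, _, _, fo19⟩, ⟨_, _, qa19⟩, ⟨_, _, qb19⟩⟩, 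
  List.forall_mem_cons.2 ⟨⟨⟨_, _, bd20⟩, ⟨_, _, rfl, ch20, sg20, rfl⟩, ⟨_, _, cm20⟩, ⟨_, _, _, _, fo20⟩, ⟨_, _, qa20⟩, ⟨_, _, qb20⟩⟩, List.forall_mem_cons.2 ⟨⟨⟨_, _, bd21⟩, ⟨_, _, rfl, ch21, sg21, rfl⟩, ⟨_, _, cm21⟩, ⟨_, _, _, _, fo21⟩, ⟨_, _, qa21⟩, ⟨_, _, qb21⟩⟩, List.forall_mem_cons.2 ⟨⟨⟨_, _, bd22⟩, ⟨_, _, rfl, ch22, sg22, rfl⟩, ⟨_, _, cm22⟩, ⟨_, _, _, _, fo22⟩, ⟨_, _, qa22⟩, ⟨_, _, qb22⟩⟩, List.forall_mem_cons.2 ⟨⟨⟨_, _, bd23⟩, ⟨_, _, rfl, ch23, sg23, rfl⟩, ⟨_, _, cm23⟩, ⟨_, _, _, _, fo23⟩, ⟨_, _, qa23⟩, ⟨_, _, qb23⟩⟩, 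
  List.forall_mem_cons.2 ⟨⟨⟨_, _, bd24⟩, ⟨_, _, rfl, ch24, sg24, rfl⟩, ⟨_, _, cm24⟩, ⟨_, _, _, _, fo24⟩, ⟨_, _, qa24⟩, ⟨_, _, qb24⟩⟩, List.forall_mem_cons.2 ⟨⟨⟨_, _, bd25⟩, ⟨_, _, rfl, ch25, sg25, rfl⟩, ⟨_, _, cm25⟩, ⟨_, _, _, _, fo25⟩, ⟨_, _, qa25⟩, ⟨_, _, qb25⟩⟩, List.forall_mem_cons.2 ⟨⟨⟨_, _, bd26⟩, ⟨_, _, rfl, ch26, sg26, rfl⟩, ⟨_, _, cm26⟩, ⟨_, _, _, _, fo26⟩, ⟨_, _, qa26⟩, ⟨_, _, qb26⟩⟩, List.forall_mem_cons.2 ⟨⟨⟨_, _, bd27⟩, ⟨_, _, rfl, ch27, sg27, rfl⟩, ⟨_, _, cm27⟩, ⟨_, _, _, _, fo27⟩, ⟨_, _, qa27⟩, ⟨_, _, qb27⟩⟩, 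
  List.forall_mem_cons.2 ⟨⟨⟨_, _, bd28⟩, ⟨_, _, rfl, ch28, sg28, rfl⟩, ⟨_, _, cm28⟩, ⟨_, _, _, _, fo28⟩, ⟨_, _, qa28⟩, ⟨_, _, qb28⟩⟩, List.forall_mem_cons.2 ⟨⟨⟨_, _, bd29⟩, ⟨_, _, rfl, ch29, sg29, rfl⟩, ⟨_, _, cm29⟩, ⟨_, _, _, _, fo29⟩, ⟨_, _, qa29⟩, ⟨_, _, qb29⟩⟩, List.forall_mem_cons.2 ⟨⟨⟨_, _, bd30⟩, ⟨_, _, rfl, ch30, sg30, rfl⟩, ⟨_, _, cm30⟩, ⟨_, _, _, _, fo30⟩, ⟨_, _, qa30⟩, ⟨_, _, qb30⟩⟩, List.forall_mem_cons.2 ⟨⟨⟨_, _, bd31⟩, ⟨_, _, rfl, ch31, sg31, rfl⟩, ⟨_, _, cm31⟩, ⟨_, _, _, _, fo31⟩, ⟨_, _, qa31⟩, ⟨_, _, qb31⟩⟩, 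
  List.forall_mem_cons.2 ⟨⟨⟨_, _, bd32⟩, ⟨_, _, rfl, ch32, sg32, rfl⟩, ⟨_, _, cm32⟩, ⟨_, _, _, _, fo32⟩, ⟨_, _, qa32⟩, ⟨_, _, qb32⟩⟩, List.forall_mem_cons.2 ⟨⟨⟨_, _, bd33⟩, ⟨_, _, rfl, ch33, sg33, rfl⟩, ⟨_, _, cm33⟩, ⟨_, _, _, _, fo33⟩, ⟨_, _, qa33⟩, ⟨_, _, qb33⟩⟩, List.forall_mem_cons.2 ⟨⟨⟨_, _, bd34⟩, ⟨_, _, rfl, ch34, sg34, rfl⟩, ⟨_, _, cm34⟩, ⟨_, _, _, _, fo34⟩, ⟨_, _, qa34⟩, ⟨_, _, qb34⟩⟩, List.forall_mem_cons.2 ⟨⟨⟨_, _, bd35⟩, ⟨_, _, rfl, ch35, sg35, rfl⟩, ⟨_, _, cm35⟩, ⟨_, _, _, _, fo35⟩, ⟨_, _, qa35⟩, ⟨_, _, qb35⟩⟩, 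
  List.forall_mem_cons.2 ⟨⟨⟨_, _, bd36⟩, ⟨_, _, rfl, ch36, sg36, rfl⟩, ⟨_, _, cm36⟩, ⟨_, _, _, _, fo36⟩, ⟨_, _, qa36⟩, ⟨_, _, qb36⟩⟩, List.forall_mem_cons.2 ⟨⟨⟨_, _, bd37⟩, ⟨_, _, rfl, ch37, sg37, rfl⟩, ⟨_, _, cm37⟩, ⟨_, _, _, _, fo37⟩, ⟨_, _, qa37⟩, ⟨_, _, qb37⟩⟩, List.forall_mem_cons.2 ⟨⟨⟨_, _, bd38⟩, ⟨_, _, rfl, ch38, sg38, rfl⟩, ⟨_, _, cm38⟩, ⟨_, _, _, _, fo38⟩, ⟨_, _, qa38⟩, ⟨_, _, qb38⟩⟩, List.forall_mem_cons.2 ⟨⟨⟨_, _, bd39⟩, ⟨_, _, rfl, ch39, sg39, rfl⟩, ⟨_, _, cm39⟩, ⟨_, _, _, _, fo39⟩, ⟨_, _, qa39⟩, ⟨_, _, qb39⟩⟩, 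
  List.forall_mem_cons.2 ⟨⟨⟨_, _, bd40⟩, ⟨_, _, rfl, ch40, sg40, rfl⟩, ⟨_, _, cm40⟩, ⟨_, _, _, _, fo40⟩, ⟨_, _, qa40⟩, ⟨_, _, qb40⟩⟩, List.forall_mem_cons.2 ⟨⟨⟨_, _, bd41⟩, ⟨_, _, rfl, ch41, sg41, rfl⟩, ⟨_, _, cm41⟩, ⟨_, _, _, _, fo41⟩, ⟨_, _, qa41⟩, ⟨_, _, qb41⟩⟩, List.forall_mem_nil _⟩⟩⟩⟩⟩⟩⟩⟩⟩⟩⟩⟩⟩⟩⟩⟩⟩⟩⟩⟩⟩⟩⟩⟩⟩⟩⟩⟩⟩⟩⟩⟩⟩⟩⟩⟩⟩⟩⟩⟩⟩⟩

theorem D_nodup : (D.map fun x => x.2.2).Nodup := by
  unfold D
  decide +kernel

theorem D_sum : Nat.ble 495766656000 ((D.map fun x => (2 * 495766656000) / (x.2.1 + 1)).sum) = true := by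
  unfold D
  decide +kernel

/-- **the 42 classes** -/
theorem cov : Cov A2 N 10 D :=
  cover_J (K := 10) (row := row) (by norm_num) A_le (fun _ ha _ hx => A_conj ha hx) card_A D
    (fun x hx => by
      obtain ⟨a, b, h⟩ := (D_ok x hx).cm
      obtain ⟨u, hu, v, hv, h1⟩ := exists_of_chkC tabs_ok h
      exact ⟨_, N.mul_mem (N.mul_mem (N.mul_mem hu hv) (N.inv_mem hu)) (N.inv_mem hv), h1⟩)
    (fun x hx => (D_ok x hx).bd) (Jx row key) (fun b hb r => Jx_conj (A_le hb) r)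
    (fun x hx r hr => by
      obtain ⟨c, cs, e, h1, h2, h3⟩ := (D_ok x hx).sg
      rw [e]
      exact Jx_of (K := 10) (by norm_num) h1 h2 h3 hr)
    D_nodup (by rw [card_N]; exact Nat.le_of_ble_eq_true D_sum)

theorem ore_N : ∀ g ∈ N, ∃ u ∈ N, ∃ v ∈ N, g = u * v * u⁻¹ * v⁻¹ :=
  comm_of_cover (fun _ ha _ hx => A_conj ha hx) cov fun x hx => by
    obtain ⟨a, b, h⟩ := (D_ok x hx).cm
    exact exists_of_chkC tabs_ok h

theorem four_N : ∀ g ∈ N, P4 N g :=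
  p4_of_cover (fun _ ha _ hx => A_conj ha hx) cov fun x hx r hr hrp => by
    obtain ⟨a, b, c, d, h⟩ := (D_ok x hx).fo
    exact p4_of tabs_ok base_ok h hr hrp

theorem pq23_N : ∀ g ∈ N, PQ N 23 g :=
  pq_of_cover (fun _ ha _ hx => A_conj ha hx) cov fun x hx r hr hrp => by
    obtain ⟨a, b, h⟩ := (D_ok x hx).qa
    exact pq_of tabs_ok base_ok h hr hrp

theorem pq11_N : ∀ g ∈ N, PQ N 11 g :=
  pq_of_cover (fun _ ha _ hx => A_conj ha hx) cov fun x hx r hr hrp => by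
    obtain ⟨a, b, h⟩ := (D_ok x hx).qb
    exact pq_of tabs_ok base_ok h hr hrp

/-- the isomorphism -/
noncomputable def eN : Spor.Co3 ≃* N :=
  Cfsg.Agent.SporRec.Co3.Model.equivCo3.symm.trans (MonoidHom.ofInjective ψ_injective)

/-- **the row `Co3` of the Ore conjecture (S2443)** -/
theorem ore_co3 {S : Type*} [Group S] (h : Spor.IsoCo3 S) : H777.Ore.AllC S := by
  obtain ⟨e⟩ := h
  exact allC_of (e.trans eN) ore_N

/-- **the row `Co3` of S4171** -/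
theorem four_co3 {S : Type*} [Group S] (h : Spor.IsoCo3 S) : H777.Ore.Inv4 S := by
  obtain ⟨e⟩ := h
  exact inv4_of (e.trans eN) four_N

/-- **the row `Co3` of S2465** -/
theorem pw_co3 {S : Type*} [Group S] (h : Spor.IsoCo3 S) : H78.Pw.Pw S := by
  obtain ⟨e⟩ := h
  exact pw_of (e.trans eN) (q := 23) (q' := 11) (by norm_num) (by norm_num) (by norm_num) (by norm_num) pq23_N pq11_N

/-- **the row `Co3` of S2453** -/
theorem sq_co3 {S : Type*} [Group S] (h : Spor.IsoCo3 S) : H134.Sq.AllP 2 S := sq_of (pw_co3 h)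

end Cfsg.Agent.H763.Co3.Fin
end

private theorem dce_a7c9f51119bd : _root_.True := by
  try have : _root_.True := by simp only [_root_.Cfsg.Agent.H763.Co3.Dat.bs.eq_1]
  exact _root_.True.intro
end
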